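import Cfsg.Agent.H571.RV.Pred
import Cfsg.Agent.S2534
import Cfsg.Agent.S2535
import Cfsg.Agent.H402.AltGrp

/-!
# TEAM RV, box R7: alternating groups (helper164)

* `onePrime_or_pi` : `Dom π A_n` gives `OnePrime π A_n ∨ PiGrp π A_n` (S2534);
* `fhall_of_onePrime`, `rowE_of_pi`, `rowE_of_conj` (elementary tools, for any simple group);
* `rowN_alt`, `rowE_alt`, `famRow_alt`.
-/

set_option autoImplicit false

namespace Cfsg.Agent.H164.RVAlt

open Subgroup Cfsg Cfsg.Agent.H988.CPi Cfsg.Agent.H571.DExt Cfsg.Agent.H571.RV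
open scoped Pointwise

section Tools

variable {π : Set ℕ} {S : Type*} [Group S]

theorem rowE_of_pi (h : PiGrp π S) : RowE π S := fun _ P _ => by
  refine ⟨⊤, h.hall, fun α _ => ?_⟩
  rw [mem_stab]
  exact Subgroup.map_top_of_surjective _ (α : S ≃* S).surjective

/-- the Sylow subgroup is a Hall subgroup when only one prime of `π` divides `|S|` -/
theorem sylow_hall [Finite S] {p : ℕ} [Fact p.Prime] (hp : p ∈ π)
    (h : ∀ q : ℕ, q.Prime → q ∈ π → q ∣ Nat.card S → q = p) (P : Sylow p S) : IsPiHall π (P : Subgroup S) := by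
  refine ⟨fun q hq hd => ?_, fun q hq hqπ hd => ?_⟩
  · obtain ⟨k, hk⟩ := IsPGroup.iff_card.mp P.isPGroup'
    rw [hk] at hd
    rwa [(Nat.prime_dvd_prime_iff_eq hq Fact.out).mp (hq.dvd_of_dvd_pow hd)]
  · have h1 : q = p := h q hq hqπ (hd.trans (Subgroup.index_dvd_card _))
    subst h1
    exact P.not_dvd_index hd

theorem fhall_of_onePrime [Finite S] (h : Cfsg.Agent.H571.RV.OnePrime π S) : FHall π S := by
  by_cases hex : ∃ p : ℕ, p.Prime ∧ p ∈ π ∧ p ∣ Nat.card S
  · obtain ⟨p, hp, hpπ, hpd⟩ := hex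
    have := Fact.mk hp
    obtain ⟨P⟩ : Nonempty (Sylow p S) := inferInstance
    refine ⟨p, hp, (P : Subgroup S), ⊥, sylow_hall hpπ (fun q hq hqπ hqd => h q p hq hp hqπ hpπ hqd hpd) P, bot_le, ?_,
      ?_, ?_, ?_⟩
    · rw [Subgroup.normalizer_eq_top]
      exact le_top
    · intro a ha b hb
      rw [Subgroup.mem_bot] at ha hb
      rw [ha, hb]
    · rw [Subgroup.card_bot]
      exact hp.one_lt.ne' ∘ Nat.dvd_one.mp
    · intro q hq hd
      rw [Subgroup.relIndex_bot_left] at hd
      obtain ⟨k, hk⟩ := IsPGroup.iff_card.mp P.isPGroup'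
      rw [hk] at hd
      exact (Nat.prime_dvd_prime_iff_eq hq hp).mp (hq.dvd_of_dvd_pow hd)
  · push Not at hex
    refine ⟨2, Nat.prime_two, ⊥, ⊥, ⟨?_, ?_⟩, le_rfl, ?_, ?_, ?_, ?_⟩
    · intro q hq hd
      rw [Subgroup.card_bot] at hd
      exact absurd (Nat.dvd_one.mp hd) hq.one_lt.ne'
    · intro q hq hqπ hd
      exact hex q hq hqπ (hd.trans (Subgroup.index_dvd_card _))
    · rw [Subgroup.normalizer_eq_top]
      exact le_top
    · intro a ha b hb
      rw [Subgroup.mem_bot] at ha hb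
      rw [ha, hb]
    · rw [Subgroup.card_bot]
      decide
    · intro q hq hd
      rw [Subgroup.relIndex_self] at hd
      exact absurd (Nat.dvd_one.mp hd) hq.one_lt.ne'

/-- A `π`-group of inner automorphisms, in a `D_π`-group with trivial center. -/
theorem inner_pi [Finite S] (hc : Subgroup.center S = ⊥) (hD : Dom π S) {P : Subgroup (MulAut S)}
    (hP : PiN π (Nat.card P)) (hin : P ≤ inn S) : ∃ H : Subgroup S, IsPiHall π H ∧ P ≤ stab H := by
  have hinj : Function.Injective (MulAut.conj : S →* MulAut S) := by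
    rw [← MonoidHom.ker_eq_bot_iff, ← hc]
    ext s
    rw [MonoidHom.mem_ker, Subgroup.mem_center_iff]
    constructor
    · intro h g
      have h1 := DFunLike.congr_fun h g
      rw [MulAut.conj_apply, MulAut.one_apply] at h1
      rw [mul_inv_eq_iff_eq_mul] at h1
      exact h1.symm
    · intro h
      ext g
      rw [MulAut.conj_apply, MulAut.one_apply, ← h g, mul_inv_cancel_right]
  set K : Subgroup S := P.comap MulAut.conj with hK
  have h1 : K.map MulAut.conj = P := Subgroup.map_comap_eq_self (by exact hin)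
  have h2 : Nat.card K = Nat.card P := by rw [← h1, Subgroup.card_map_of_injective hinj]
  obtain ⟨H, hH, hKH⟩ := Cfsg.Agent.H571.RV.Dom.pi_le hD K (by rw [h2]; exact hP)
  refine ⟨H, hH, ?_⟩
  rw [← h1]
  rintro _ ⟨s, hs, rfl⟩
  have hs' : s ∈ H := hKH hs
  rw [mem_stab]
  ext x
  constructor
  · rintro ⟨y, hy, rfl⟩
    exact H.mul_mem (H.mul_mem hs' hy) (H.inv_mem hs')
  · intro hx
    refine ⟨s⁻¹ * x * s, H.mul_mem (H.mul_mem (H.inv_mem hs') hx) hs', ?_⟩
    show s * (s⁻¹ * x * s) * s⁻¹ = x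
    group

/-- `MulAut` as a set of subgroup actions: a `p`-group of automorphisms stabilises a Sylow `p`-subgroup. -/
theorem exists_sylow_stab [Finite S] {p : ℕ} [Fact p.Prime] {P : Subgroup (MulAut S)} (hP : IsPGroup p P) :
    ∃ Q : Sylow p S, P ≤ stab (Q : Subgroup S) := by
  obtain ⟨Q, hQ⟩ := hP.nonempty_fixed_point_of_prime_not_dvd_card (Sylow p S) (not_dvd_card_sylow p S)
  refine ⟨Q, fun α hα => ?_⟩
  have h1 := hQ ⟨α, hα⟩
  rw [mem_stab]
  have h2 : ((⟨α, hα⟩ : P) • Q : Sylow p S).toSubgroup = Q.toSubgroup := congrArg _ h1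
  exact h2

/-- `Out S` a 2-group (element-wise form) and `|S|` even. -/
theorem rowE_of_two [Finite S] (hc : Subgroup.center S = ⊥) (h2 : 2 ∣ Nat.card S)
    (hout : ∀ α : MulAut S, ∃ k : ℕ, α ^ 2 ^ k ∈ inn S)
    (h : Dom π S → Cfsg.Agent.H571.RV.OnePrime π S ∨ PiGrp π S) : RowE π S := by
  intro hD P hP
  rcases h hD with h1 | h1
  swap
  · exact rowE_of_pi h1 hD P hP
  -- elements of odd order are inner
  have hodd : ∀ α : MulAut S, Odd (orderOf α) → α ∈ inn S := by
    intro α hα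
    obtain ⟨k, hk⟩ := hout α
    have hcop : (2 ^ k).Coprime (orderOf α) := (Nat.coprime_two_left.mpr hα).pow_left k
    have h3 : Subgroup.zpowers (α ^ 2 ^ k) = Subgroup.zpowers α := by
      refine le_antisymm (Subgroup.zpowers_le.mpr (Subgroup.pow_mem _ (Subgroup.mem_zpowers α) _)) ?_
      rw [Subgroup.zpowers_le]
      obtain ⟨m, hm⟩ := exists_pow_eq_self_of_coprime (x := α) hcop
      have h5 : (α ^ 2 ^ k) ^ m ∈ Subgroup.zpowers (α ^ 2 ^ k) := Subgroup.pow_mem _ (Subgroup.mem_zpowers _) _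
      rwa [hm] at h5
    have h4 : Subgroup.zpowers (α ^ 2 ^ k) ≤ inn S := Subgroup.zpowers_le.mpr hk
    rw [h3] at h4
    exact h4 (Subgroup.mem_zpowers α)
  by_cases h2π : 2 ∈ π
  · -- `P` is a 2-group
    have hPtwo : IsPGroup 2 P := by
      rw [IsPGroup.iff_orderOf]
      intro x
      have hx : ∀ q : ℕ, q.Prime → q ∣ orderOf x → q = 2 := by
        intro q hq hqd
        have hqπ : q ∈ π := hP q hq (hqd.trans (orderOf_dvd_natCard x))
        by_contra hq2
        have hodq : Odd q := hq.odd_of_ne_two hq2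
        set y : MulAut S := (x : MulAut S) ^ (orderOf x / q) with hy
        have hoy : orderOf y = q := by
          rw [hy, ← Subgroup.orderOf_coe x]
          have h0 : 0 < orderOf (x : MulAut S) := by
            rw [Subgroup.orderOf_coe]; exact orderOf_pos x
          rw [orderOf_pow_of_dvd (Nat.div_pos (Nat.le_of_dvd h0 (by rwa [Subgroup.orderOf_coe])) hq.pos).ne'
            (Nat.div_dvd_of_dvd (by rwa [Subgroup.orderOf_coe])), Nat.div_div_self (by rwa [Subgroup.orderOf_coe]) h0.ne']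
        have hyin : y ∈ inn S := hodd y (by rw [hoy]; exact hodq)
        obtain ⟨s, hs⟩ := hyin
        have h5 : q ∣ orderOf s := by
          rw [← hoy, ← hs]
          exact orderOf_map_dvd _ s
        have h6 : q ∣ Nat.card S := h5.trans (orderOf_dvd_natCard s)
        exact hq2 (h1 q 2 hq Nat.prime_two hqπ h2π h6 h2)
      exact ⟨_, Nat.eq_prime_pow_of_unique_prime_dvd (orderOf_pos x).ne' (fun {q} hq hqd => hx q hq hqd)⟩
    obtain ⟨Q, hQ⟩ := exists_sylow_stab hPtwo
    exact ⟨Q, sylow_hall h2π (fun q hq hqπ hqd => h1 q 2 hq Nat.prime_two hqπ h2π hqd h2) Q, hQ⟩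
  · refine inner_pi hc hD hP fun α hα => hodd α ?_
    rw [← Nat.not_even_iff_odd, even_iff_two_dvd]
    intro h5
    refine h2π (hP 2 Nat.prime_two (h5.trans ?_))
    have h6 := orderOf_dvd_natCard (⟨α, hα⟩ : P)
    rwa [Subgroup.orderOf_mk] at h6

end Tools

section Alt

variable {n : ℕ} {π : Set ℕ}

/-- `Dom π A_n` : at most one prime of `π` divides the order, or all of them lie in `π`. -/
theorem onePrime_or_pi (hn : 5 ≤ n) (h : Dom π (alternatingGroup (Fin n))) :
    Cfsg.Agent.H571.RV.OnePrime π (alternatingGroup (Fin n)) ∨ PiGrp π (alternatingGroup (Fin n)) :=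
  (Cfsg.Agent.S2534.result n hn π).mp (dom_iff.mpr h)

theorem cpi_of_DB (h : DB π (alternatingGroup (Fin n))) : IsCPiGroup π (alternatingGroup (Fin n)) := by
  obtain ⟨L, hL, -⟩ := h.dom ⊥ (by
    intro p hp hd
    rw [Subgroup.card_bot] at hd
    exact absurd (Nat.dvd_one.mp hd) hp.one_lt.ne')
  exact (Cfsg.Agent.S2535.result n π).2.2.mp ⟨L, hL⟩

theorem rowN_alt : RowN π (alternatingGroup (Fin n)) := cpi_of_DB

theorem famRow_alt (hn : 5 ≤ n) : FamRow π (alternatingGroup (Fin n)) := fun h =>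
  (onePrime_or_pi hn (h.to_dom (cpi_of_DB h))).elim (fun h1 => Or.inr ⟨cpi_of_DB h, fhall_of_onePrime h1⟩) Or.inl

theorem rowE_alt (hn : 5 ≤ n) : RowE π (alternatingGroup (Fin n)) := by
  refine rowE_of_two ?_ ?_ ?_ (onePrime_or_pi hn)
  · exact alternatingGroup.center_eq_bot (by rw [Nat.card_eq_fintype_card, Fintype.card_fin]; omega)
  · have : Nontrivial (Fin n) := Fin.nontrivial_iff_two_le.mpr (by omega)
    have h1 := two_mul_nat_card_alternatingGroup (α := Fin n)
    rw [Nat.card_perm, Nat.card_eq_fintype_card (α := Fin n), Fintype.card_fin] at h1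
    have h2 : 4 ∣ n.factorial := (by decide : 4 ∣ Nat.factorial 4).trans (Nat.factorial_dvd_factorial (by omega))
    omega
  · intro α
    obtain ⟨s, hs⟩ := Cfsg.Agent.H402.AltG.inner_four hn α
    exact ⟨2, s, hs.symm⟩

end Alt

end Cfsg.Agent.H164.RVAlt
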