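import Cfsg.Agent.H571.RV.Pred
import Cfsg.Agent.H565.PairExc

/-!
# TEAM RV, R2 exceptional: `FHall` from the pairs (helper164)

* `Good π t G` : `PairN t u G` for all `u ∈ π`, `u ≠ t`, and the `t`-subgroups of `G` are abelian;
* `fhall_of_good` : a Hall `π`-subgroup, `2 ∉ π`, `Good π t G` for all `t ∈ π` different from `s` imply `FHall π G`;
* `ab_of_toral`, `good_of_not_dvd` : primes not dividing the order of the Weyl group;
* `fhall_easy`.
-/

set_option autoImplicit false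
set_option linter.unusedSectionVars false

namespace Cfsg.Agent.H164.RVExc

open Subgroup Cfsg Cfsg.Agent.H988.CPi Cfsg.Agent.H571.DExt Cfsg.Agent.H571.RV Cfsg.Agent.H553.OddHall
  Cfsg.Agent.H565.NM

universe u

/-- the conditions at the prime `t` -/
structure Good (π : Set ℕ) (t : ℕ) (G : Type*) [Group G] : Prop where
  pair : ∀ u : ℕ, u.Prime → u ∈ π → u ≠ t → u ∣ Nat.card G → PairN t u G
  ab : ∀ T : Subgroup G, IsPGroup t T → ∀ a ∈ T, ∀ b ∈ T, a * b = b * a

variable {π : Set ℕ} {G : Type u} [Group G] [Finite G]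

/-- the elements of order a power of `t` lie in a normal Sylow `t`-subgroup -/
theorem mem_of_ns {X : Type*} [Group X] [Finite X] {t : ℕ} (ht : t.Prime) {T : Subgroup X} (hn : T.Normal)
    (hi : ¬ t ∣ T.index) {x : X} {j : ℕ} (hx : x ^ t ^ j = 1) : x ∈ T := by
  have h1 : (QuotientGroup.mk' T x) ^ t ^ j = 1 := by rw [← map_pow, hx, map_one]
  have h2 : (QuotientGroup.mk' T x) ^ Nat.card (X ⧸ T) = 1 := pow_card_eq_one'
  have hcop : Nat.Coprime (t ^ j) (Nat.card (X ⧸ T)) := by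
    apply Nat.Coprime.pow_left
    rw [Nat.Prime.coprime_iff_not_dvd ht]
    exact hi
  have h3 : orderOf (QuotientGroup.mk' T x) ∣ 1 := by
    rw [← hcop.gcd_eq_one]
    exact Nat.dvd_gcd (orderOf_dvd_of_pow_eq_one h1) (orderOf_dvd_of_pow_eq_one h2)
  rw [Nat.dvd_one, orderOf_eq_one_iff] at h3
  exact (QuotientGroup.eq_one_iff x).mp h3

theorem fhall_of_good (h2 : 2 ∉ π) (hE : IsEPiGroup π G) {s : ℕ} (hs : s.Prime)
    (h : ∀ t : ℕ, t.Prime → t ∈ π → t ∣ Nat.card G → t ≠ s → Good π t G) : FHall π G := by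
  classical
  obtain ⟨H, hH⟩ := hE
  -- the normal Sylow subgroups
  have hns : ∀ t : ℕ, t.Prime → t ∣ Nat.card H → t ≠ s → ∃ T : Subgroup H, T.Normal ∧ IsPGroup t T ∧ ¬ t ∣ T.index ∧
      ∀ a ∈ T, ∀ b ∈ T, a * b = b * a := by
    intro t ht htH hts
    have htπ : t ∈ π := hH.1 t ht htH
    have htG : t ∣ Nat.card G := htH.trans (card_subgroup_dvd_card H)
    have hg := h t ht htπ htG hts
    obtain ⟨T, hn, hp, hi⟩ := ns_of_pairs h2 ht htπ hg.pair hH
    refine ⟨T, hn, hp, hi, fun a ha b hb => ?_⟩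
    have h1 := hg.ab (T.map H.subtype) (hp.map _) a ⟨a, ha, rfl⟩ b ⟨b, hb, rfl⟩
    exact Subtype.ext h1
  -- elements of prime power order, the prime different from `s`
  let S : Set H := {x | ∃ t j : ℕ, t.Prime ∧ t ≠ s ∧ x ^ t ^ j = 1}
  have hdvd : ∀ x : H, x ≠ 1 → ∀ t j : ℕ, t.Prime → x ^ t ^ j = 1 → t ∣ Nat.card H := by
    intro x hx t j ht hj
    obtain ⟨i, -, hi⟩ := (Nat.dvd_prime_pow ht).1 (orderOf_dvd_of_pow_eq_one hj)
    have hi0 : i ≠ 0 := by
      rintro rfl
      rw [pow_zero, orderOf_eq_one_iff] at hi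
      exact hx hi
    exact (dvd_pow_self t hi0).trans (hi ▸ orderOf_dvd_natCard x)
  have hcomm : ∀ x ∈ S, ∀ y ∈ S, x * y = y * x := by
    rintro x ⟨t, i, ht, hts, hx⟩ y ⟨u, j, hu, hus, hy⟩
    by_cases hx1 : x = 1
    · rw [hx1, one_mul, mul_one]
    by_cases hy1 : y = 1
    · rw [hy1, one_mul, mul_one]
    obtain ⟨T, hTn, hTp, hTi, hTab⟩ := hns t ht (hdvd x hx1 t i ht hx) hts
    obtain ⟨U, hUn, hUp, hUi, hUab⟩ := hns u hu (hdvd y hy1 u j hu hy) hus
    have hxT := mem_of_ns ht hTn hTi hx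
    have hyU := mem_of_ns hu hUn hUi hy
    by_cases htu : t = u
    · subst htu
      exact hTab x hxT y (mem_of_ns ht hTn hTi hy)
    · have h3 : x * y * x⁻¹ * y⁻¹ ∈ T ⊓ U := by
        refine ⟨?_, ?_⟩
        · have h4 : x * y * x⁻¹ * y⁻¹ = x * (y * x⁻¹ * y⁻¹) := by group
          rw [h4]
          exact T.mul_mem hxT (hTn.conj_mem _ (T.inv_mem hxT) _)
        · exact U.mul_mem (hUn.conj_mem _ hyU _) (U.inv_mem hyU)
      have h5 : T ⊓ U = ⊥ := by
        have := Fact.mk ht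
        have := Fact.mk hu
        exact IsPGroup.disjoint_of_ne t u htu _ _ hTp hUp |>.eq_bot
      rw [h5, mem_bot] at h3
      have h6 : x * y = (x * y * x⁻¹ * y⁻¹) * (y * x) := by group
      rw [h6, h3, one_mul]
  set A' : Subgroup H := closure S with hA'
  have hAc : ∀ x ∈ A', ∀ y ∈ A', x * y = y * x := by
    intro x hx y hy
    have h1 : A' ≤ centralizer S := by
      rw [hA', closure_le]
      intro z hz
      rw [SetLike.mem_coe, mem_centralizer_iff]
      exact fun w hw => hcomm w hw z hz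
    have h3 : A' ≤ centralizer (A' : Set H) := by
      rw [hA', closure_le]
      intro z hz
      rw [SetLike.mem_coe, mem_centralizer_iff]
      intro w hw
      have h4 := mem_centralizer_iff.1 (h1 hw) z hz
      exact h4.symm
    exact (mem_centralizer_iff.1 (h3 hy) x hx)
  have hAn : A'.Normal := by
    refine ⟨fun a ha g => ?_⟩
    have h1 : A' ≤ A'.comap (MulAut.conj g).toMonoidHom := by
      conv_lhs => rw [hA']
      rw [closure_le]
      rintro x ⟨t, j, ht, hts, hx⟩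
      refine subset_closure ⟨t, j, ht, hts, ?_⟩
      show (g * x * g⁻¹) ^ t ^ j = 1
      rw [conj_pow, hx, mul_one, mul_inv_cancel]
    exact h1 ha
  have hAs : ∀ x ∈ A', ∃ n : ℕ, n.Coprime s ∧ x ^ n = 1 := by
    intro x hx
    have key : ∀ x ∈ closure S, x ∈ A' ∧ ∃ n : ℕ, n.Coprime s ∧ x ^ n = 1 := by
      intro x hx
      induction hx using closure_induction with
      | mem x hx =>
        refine ⟨subset_closure hx, ?_⟩
        obtain ⟨t, j, ht, hts, hx⟩ := hx
        exact ⟨t ^ j, Nat.Coprime.pow_left _ ((Nat.coprime_primes ht hs).2 hts), hx⟩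
      | one => exact ⟨one_mem _, 1, Nat.coprime_one_left _, one_pow _⟩
      | mul x y _ _ hx hy =>
        obtain ⟨hxA, n, hn, hxn⟩ := hx
        obtain ⟨hyA, m, hm, hym⟩ := hy
        refine ⟨mul_mem hxA hyA, n * m, hn.mul_left hm, ?_⟩
        rw [(show Commute x y from hAc x hxA y hyA).mul_pow, pow_mul, hxn, one_pow, one_mul, mul_comm, pow_mul, hym,
          one_pow]
      | inv x _ hx =>
        obtain ⟨hxA, n, hn, hxn⟩ := hx
        exact ⟨inv_mem hxA, n, hn, by rw [inv_pow, hxn, inv_one]⟩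
    exact (key x hx).2
  have hcard : Nat.card (A'.map H.subtype) = Nat.card A' := card_map_of_injective H.subtype_injective
  have hrel : (A'.map H.subtype).relIndex H = A'.index := by
    have h1 : (A'.map H.subtype).subgroupOf H = A' := by
      ext x
      rw [mem_subgroupOf]
      constructor
      · rintro ⟨y, hy, e⟩
        rwa [← H.subtype_injective e]
      · intro hx
        exact ⟨x, hx, rfl⟩
    show ((A'.map H.subtype).subgroupOf H).index = _
    rw [h1]
  refine ⟨s, hs, H, A'.map H.subtype, hH, map_subtype_le _, ?_, ?_, ?_, ?_⟩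
  · intro x hx
    rw [mem_normalizer_iff]
    intro a
    constructor
    · rintro ⟨b, hb, rfl⟩
      exact ⟨⟨x, hx⟩ * b * ⟨x, hx⟩⁻¹, hAn.conj_mem b hb _, rfl⟩
    · rintro ⟨b, hb, e⟩
      refine ⟨⟨x, hx⟩⁻¹ * b * ⟨x, hx⟩, ?_, ?_⟩
      · have h1 := hAn.conj_mem b hb (⟨x, hx⟩ : H)⁻¹
        rwa [inv_inv] at h1
      · show x⁻¹ * (b : G) * x = a
        have h1 : (b : G) = x * a * x⁻¹ := e
        rw [h1]; group
  · rintro _ ⟨a, ha, rfl⟩ _ ⟨b, hb, rfl⟩
    rw [← map_mul, ← map_mul, hAc a ha b hb]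
  · rw [hcard]
    intro hd
    have := Fact.mk hs
    obtain ⟨x, hx⟩ := exists_prime_orderOf_dvd_card' s hd
    obtain ⟨n, hn, hxn⟩ := hAs x x.2
    have h1 : s ∣ n := by
      rw [← hx]
      exact orderOf_dvd_of_pow_eq_one (Subtype.ext hxn)
    have h3 : s ∣ 1 := by
      rw [← hn.gcd_eq_one]
      exact Nat.dvd_gcd h1 dvd_rfl
    exact hs.one_lt.ne' (Nat.dvd_one.1 h3)
  · intro p hp hd
    rw [hrel] at hd
    by_contra hps
    have hpH : p ∣ Nat.card H := hd.trans (index_dvd_card A')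
    obtain ⟨T, hTn, hTp, hTi, -⟩ := hns p hp hpH hps
    have hTA : T ≤ A' := by
      intro x hx
      obtain ⟨j, hj⟩ := hTp ⟨x, hx⟩
      exact subset_closure ⟨p, j, hp, hps, congrArg Subtype.val hj⟩
    exact hTi (hd.trans (index_dvd_of_le hTA))

/-! ### groups embedded in `D.group k` -/

section Tor

open CoxeterSystem Cfsg.Lie Cfsg.Lie.ChevalleyDatum
open Cfsg.Agent.ChevalleyStructure Cfsg.Agent.ChevalleyStructure.Elts Cfsg.Agent.ChevalleyStructure.CoxeterGeom
  Cfsg.Agent.ChevalleyStructure.CoxeterGeomTypes Cfsg.Agent.ChevalleyStructure.NPerm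
open Cfsg.Agent.Tits.Roots Cfsg.Agent.Tits.Core Cfsg.Agent.Nodes Cfsg.Agent.Nodes.Reps Cfsg.Agent.Nodes.BNOf
  Cfsg.Agent.Nodes.RGDChev Cfsg.Agent.Nodes.Bruhat
open Cfsg.Agent.KFacts.RgdField Cfsg.Agent.KFacts.RgdChevCoord Cfsg.Agent.BpExc.TorCent Cfsg.Agent.BpExc.TorChev
open Cfsg.Agent.GpExc.Field Cfsg.Agent.BpExc.Tow Cfsg.Agent.BpExc.TowChev Cfsg.Agent.BpExc.Fr
  Cfsg.Agent.BpExc.LangFr Cfsg.Agent.H795.SetCent Cfsg.Agent.H795.SetTor

variable {D : ChevalleyDatum} {l : ℕ} {M : CoxeterMatrix (Fin l)} (hp : IsType D l M)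
  (r : ℕ) [Fact r.Prime] {k : Type u} [Field k] [CharP k r]

include hp in
/-- toral subgroups are abelian -/
theorem ab_of_toral {X : Type*} [Group X] {f : X →* ↥(D.group k)} (hf : Function.Injective f) {T : Subgroup X}
    {g : ↥(D.group k)} (hg : ∀ x ∈ T, g * f x * g⁻¹ ∈ TT D k) : ∀ a ∈ T, ∀ b ∈ T, a * b = b * a := by
  intro a ha b hb
  apply hf
  have h1 := TT_comm hp _ (hg a ha) _ (hg b hb)
  rw [map_mul, map_mul]
  have h3 : g * (f a * f b) * g⁻¹ = g * (f b * f a) * g⁻¹ := by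
    calc g * (f a * f b) * g⁻¹ = g * f a * g⁻¹ * (g * f b * g⁻¹) := by group
      _ = g * f b * g⁻¹ * (g * f a * g⁻¹) := h1
      _ = _ := by group
  exact mul_left_cancel (mul_right_cancel h3)

variable [IsAlgClosed k]

include hp in
/-- primes which do not divide the order of the Weyl group -/
theorem good_of_not_dvd (hk : LocFin k) {X : Type*} [Group X] [Finite X] {f : X →* ↥(D.group k)}
    (hf : Function.Injective f) (h2 : 2 ∉ π) (hr : r ∉ π) {t : ℕ} (ht : t.Prime) (htπ : t ∈ π)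
    (htW : ¬ t ∣ Nat.card M.Group)
    (hlow : ∀ u : ℕ, u.Prime → u ∈ π → u < t → u ∣ Nat.card X → PairN t u X)
    (hup : ∀ u : ℕ, u.Prime → u ∈ π → t < u → u ∣ Nat.card X → ¬ u ∣ Nat.card M.Group) : Good π t X := by
  have htr : t ≠ r := by
    rintro rfl
    exact hr htπ
  refine ⟨fun u hu huπ hut huX => ?_, fun T hT => ?_⟩
  · rcases lt_or_gt_of_ne hut with hlt | hlt
    · exact hlow u hu huπ hlt huX
    · have hu2 : u ≠ 2 := by
        rintro rfl
        exact h2 huπ
      have ht2 : t ≠ 2 := by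
        rintro rfl
        exact h2 htπ
      have hur : u ≠ r := by
        rintro rfl
        exact hr huπ
      exact pairN_of_noMin hu ht hu2 ht2 hut (noMin_of_not_dvd hp r hk hf hur (hup u hu huπ hlt huX) htW)
  · obtain ⟨g, hg⟩ := exists_g_of_not_dvd hp r hk f ht htr htW hT
    exact ab_of_toral hp hf hg

include hp in
/-- **The easy case**: the primes of `π` other than the smallest one do not divide the order of the Weyl group. -/
theorem fhall_easy (hk : LocFin k) {X : Type*} [Group X] [Finite X] {f : X →* ↥(D.group k)}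
    (hf : Function.Injective f) (h2 : 2 ∉ π) (hr : r ∉ π) (hE : IsEPiGroup π X)
    (hpair : ∀ s t : ℕ, s.Prime → t.Prime → s ∈ π → t ∈ π → s < t → PairN t s X)
    (hW : ∀ s t : ℕ, s.Prime → t.Prime → s ∈ π → t ∈ π → s < t → s ∣ Nat.card X → t ∣ Nat.card X →
      ¬ t ∣ Nat.card M.Group) : FHall π X := by
  classical
  by_cases hex : ∃ s : ℕ, s.Prime ∧ s ∈ π ∧ s ∣ Nat.card X
  · set s := Nat.find hex with hs
    obtain ⟨hsp, hsπ, hsX⟩ := Nat.find_spec hex
    refine fhall_of_good h2 hE hsp fun t ht htπ htX hts => ?_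
    have hst : s < t := lt_of_le_of_ne (Nat.find_min' hex ⟨ht, htπ, htX⟩) (Ne.symm hts)
    refine good_of_not_dvd hp r hk hf h2 hr ht htπ (hW s t hsp ht hsπ htπ hst hsX htX) ?_ ?_
    · intro u hu huπ hut _
      exact hpair u t hu ht huπ htπ hut
    · intro u hu huπ htu huX
      exact hW t u ht hu htπ huπ htu htX huX
  · refine fhall_of_good h2 hE Nat.prime_two fun t ht htπ htX _ => ?_
    exact absurd ⟨t, ht, htπ, htX⟩ hex

end Tor

end Cfsg.Agent.H164.RVExc
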