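import Cfsg.Agent.H164.RV.ExcFull
import Cfsg.Agent.H565.CharCnt
import Cfsg.Agent.H566.PairLat

/-!
# TEAM RV, R2 exceptional: fixed points of `t`-elements of the Weyl group on the `s`-elements of the torus (helper164)

* `eq_one_of_mod` : Minkowski's lemma;
* `card_fix` : the number of functionals modulo `s` fixed by a `t`-element `w ≠ 1` is `s ^ f`, `f < l`, `s ^ l ≡ s ^ f (t)`;
* `card_le_of_fix` : elementary abelian `s`-subgroups of the torus fixed by `w`;
* `exists_elem` : elementary abelian subgroups of `TG κ` from functionals.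
-/

set_option autoImplicit false
set_option linter.unusedSectionVars false

namespace Cfsg.Agent.H164.RVExc

open CoxeterSystem Cfsg Cfsg.Lie Cfsg.Lie.ChevalleyDatum
open Cfsg.Agent.ChevalleyStructure Cfsg.Agent.ChevalleyStructure.Elts Cfsg.Agent.ChevalleyStructure.CoxeterGeom
  Cfsg.Agent.ChevalleyStructure.CoxeterGeomTypes Cfsg.Agent.ChevalleyStructure.NPerm
open Cfsg.Agent.Tits.Roots Cfsg.Agent.Tits.Core Cfsg.Agent.Nodes Cfsg.Agent.Nodes.Reps Cfsg.Agent.Nodes.BNOf
  Cfsg.Agent.Nodes.RGDChev Cfsg.Agent.Nodes.Bruhat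
open Cfsg.Agent.KFacts.RgdField Cfsg.Agent.KFacts.RgdChevCoord Cfsg.Agent.BpExc.TorCent Cfsg.Agent.BpExc.TorChev
open Cfsg.Agent.GpExc.Field Cfsg.Agent.BpExc.Tow Cfsg.Agent.BpExc.TowChev Cfsg.Agent.BpExc.Fr
  Cfsg.Agent.BpExc.LangFr Cfsg.Agent.H129.TorusChar Cfsg.Agent.H129.TorusMain Cfsg.Agent.H123.ExcZ
open Cfsg.Agent.BpExc Cfsg.Agent.H795.LangT Cfsg.Agent.H795.Core Cfsg.Agent.H795.NotAbT
open Cfsg.Agent.H572.ExcA Cfsg.Agent.H572.ExcB Cfsg.Agent.H572.ExcC Cfsg.Agent.H572.ExcD Cfsg.Agent.H572.ExcE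
open Cfsg.Agent.H565.CharCnt Cfsg.Agent.H566.PairW
open Subgroup

universe u v

section Lat

variable {l : ℕ} {M : CoxeterMatrix (Fin l)} {A : Fin l → Fin l → ℤ} (hA : IsCartan M A)

/-- an element of order a power of `t` which is trivial modulo `s` is trivial -/
theorem eq_one_of_mod [Finite M.Group] {s t : ℕ} (hs : s.Prime) (ht : t.Prime) (hst : s ≠ t) {w : M.Group} {i : ℕ}
    (hw : w ^ t ^ i = 1) (h : ∀ x j, (s : ℤ) ∣ (rep M.toCoxeterSystem hA w x - x) j) : w = 1 := by
  have hZ : ¬ s ∣ Nat.card (zpowers w) := by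
    rw [Nat.card_zpowers]
    intro h1
    have h2 := hs.dvd_of_dvd_pow (h1.trans (orderOf_dvd_of_pow_eq_one hw))
    exact hst ((Nat.prime_dvd_prime_iff_eq hs ht).1 h2)
  have h1 : (⟨w, mem_zpowers w⟩ : zpowers w) = 1 := by
    refine red_faith hs hZ (f := (rep M.toCoxeterSystem hA).comp (zpowers w).subtype)
      ((rep_injective M.toCoxeterSystem hA).comp (zpowers w).subtype_injective) ?_
    show Matrix.toLinAlgEquiv' (R := ZMod s) (n := Fin l)
      ((LinearMap.toMatrixAlgEquiv' (rep M.toCoxeterSystem hA w)).map (Int.castRingHom (ZMod s))) = 1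
    have h2 : (LinearMap.toMatrixAlgEquiv' (rep M.toCoxeterSystem hA w)).map (Int.castRingHom (ZMod s)) = 1 := by
      ext a b
      rw [Matrix.map_apply, LinearMap.toMatrixAlgEquiv'_apply]
      have h3 := h (Pi.single b 1) a
      rw [Pi.sub_apply, Pi.single_apply] at h3
      have h4 := (ZMod.intCast_eq_intCast_iff_dvd_sub _ _ _).2 h3
      have h5 : ((if a = b then 1 else 0 : ℤ) : ZMod s) = (1 : Matrix (Fin l) (Fin l) (ZMod s)) a b := by
        rw [Matrix.one_apply]
        split <;> simp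
      rw [← h5]
      exact h4.symm
    rw [h2, map_one]
  exact congrArg Subtype.val h1

/-- the functionals modulo `s` -/
abbrev Fun' (l s : ℕ) := (Fin l → ℤ) →ₗ[ℤ] ZMod s

theorem card_Fun (l s : ℕ) : Nat.card (Fun' l s) = s ^ l := by
  rw [Nat.card_congr ((Pi.basisFun ℤ (Fin l)).constr ℤ).toEquiv.symm, Nat.card_fun, Nat.card_zmod,
    Nat.card_eq_fintype_card, Fintype.card_fin]

/-- the fixed functionals -/
def fixF (s : ℕ) (w : M.Group) : Submodule ℤ (Fun' l s) where
  carrier := {c | ∀ x, c (rep M.toCoxeterSystem hA w x) = c x}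
  zero_mem' := fun x => rfl
  add_mem' := by
    intro a b ha hb x
    rw [LinearMap.add_apply, LinearMap.add_apply, ha x, hb x]
  smul_mem' := by
    intro n a ha x
    rw [LinearMap.smul_apply, LinearMap.smul_apply, ha x]

theorem card_fix [Finite M.Group] {s t : ℕ} [hs : Fact s.Prime] [ht : Fact t.Prime] (hst : s ≠ t) {w : M.Group} {i : ℕ}
    (hw : w ^ t ^ i = 1) (hw1 : w ≠ 1) :
    ∃ f, f < l ∧ s ^ l ≡ s ^ f [MOD t] ∧ Nat.card (fixF hA s w) = s ^ f := by
  have hs0 : s ≠ 0 := hs.out.ne_zero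
  have hfin : Finite (Fun' l s) := Nat.finite_of_card_ne_zero (by rw [card_Fun]; exact pow_ne_zero _ hs0)
  -- the action
  let act : MulAction (zpowers w) (Fun' l s) :=
    { smul := fun v c => c.comp (rep M.toCoxeterSystem hA ((v : M.Group)⁻¹))
      one_smul := fun c => by
        apply LinearMap.ext
        intro x
        show c (rep M.toCoxeterSystem hA (((1 : zpowers w) : M.Group)⁻¹) x) = c x
        rw [OneMemClass.coe_one, inv_one, map_one, Module.End.one_apply]
      mul_smul := fun a b c => by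
        apply LinearMap.ext
        intro x
        show c (rep M.toCoxeterSystem hA (((a * b : zpowers w) : M.Group)⁻¹) x) =
          c (rep M.toCoxeterSystem hA ((b : M.Group)⁻¹) (rep M.toCoxeterSystem hA ((a : M.Group)⁻¹) x))
        rw [Subgroup.coe_mul, mul_inv_rev, map_mul, Module.End.mul_apply] }
  have hP : IsPGroup t (zpowers w) := by
    rintro ⟨_, n, rfl⟩
    refine ⟨i, Subtype.ext ?_⟩
    show (w ^ n) ^ t ^ i = 1
    rw [← zpow_natCast, ← zpow_mul, mul_comm, zpow_mul, zpow_natCast, hw, one_zpow]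
  have h1 := hP.card_modEq_card_fixedPoints (Fun' l s)
  have h2 : Nat.card (MulAction.fixedPoints (zpowers w) (Fun' l s)) = Nat.card (fixF hA s w) := by
    refine Nat.card_congr (Equiv.subtypeEquivRight fun c => ?_)
    rw [MulAction.mem_fixedPoints]
    constructor
    · intro h x
      have h3 := h ⟨w⁻¹, inv_mem (mem_zpowers w)⟩
      have h4 : c (rep M.toCoxeterSystem hA ((w⁻¹)⁻¹) x) = c x := LinearMap.congr_fun h3 x
      rwa [inv_inv] at h4
    · rintro h ⟨_, n, rfl⟩
      apply LinearMap.ext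
      intro x
      show c (rep M.toCoxeterSystem hA ((w ^ n)⁻¹) x) = c x
      have h5 : ∀ m : ℕ, ∀ x, c (rep M.toCoxeterSystem hA (w ^ m) x) = c x := by
        intro m
        induction m with
        | zero => intro x; rw [pow_zero, map_one, Module.End.one_apply]
        | succ m ih => intro x; rw [pow_succ', map_mul, Module.End.mul_apply, h, ih]
      have h6 : (w ^ n)⁻¹ ∈ Submonoid.powers w := by
        rw [mem_powers_iff_mem_zpowers]
        exact inv_mem (zpow_mem (mem_zpowers w) n)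
      obtain ⟨m, hm⟩ := h6
      rw [← hm]
      exact h5 m x
  rw [h2, card_Fun] at h1
  have h3 : Nat.card (fixF hA s w) ∣ s ^ l := by
    rw [← card_Fun l s]
    exact AddSubgroup.card_addSubgroup_dvd_card (fixF hA s w).toAddSubgroup
  obtain ⟨f, hf, hfc⟩ := (Nat.dvd_prime_pow hs.out).1 h3
  rw [hfc] at h1
  refine ⟨f, lt_of_le_of_ne hf ?_, h1, hfc⟩
  rintro rfl
  apply hw1
  have h4 : (fixF hA s w).toAddSubgroup = ⊤ := AddSubgroup.eq_top_of_card_eq _ (by
    rw [card_Fun, ← hfc]; rfl)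
  refine eq_one_of_mod hA hs.out ht.out hst hw fun x j => ?_
  have h5 : ((Int.castAddHom (ZMod s)).comp (Pi.evalAddMonoidHom (fun _ : Fin f => ℤ) j)).toIntLinearMap ∈
      (fixF hA s w).toAddSubgroup := by rw [h4]; exact AddSubgroup.mem_top _
  have h6 : ((rep M.toCoxeterSystem hA w x j : ℤ) : ZMod s) = ((x j : ℤ) : ZMod s) := h5 x
  rw [Pi.sub_apply]
  exact (ZMod.intCast_eq_intCast_iff_dvd_sub _ _ _).1 h6.symm

end Lat

section Tor

variable {D : ChevalleyDatum} {l : ℕ} {M : CoxeterMatrix (Fin l)} {hp : IsType D l M}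
  {k : Type u} [Field k] [IsAlgClosed k] {r : ℕ} [Fact r.Prime] [CharP k r]

/-- the functional of an element of order dividing `s` of the torus -/
theorem exists_fun {s : ℕ} [hs : Fact s.Prime] {ζ : k} (hζ : IsPrimitiveRoot ζ s) {z : ↥(D.group k)} (hz : z ∈ TT D k)
    (hzs : z ^ s = 1) : ∃ c : Fun' l s, ∀ x, cX hp z x = ζ ^ (c x).val := by
  have hmc := isMC_cX hp hz
  have h1 : ∀ x, ∃ a : ZMod s, cX hp z x = ζ ^ a.val := by
    intro x
    have h2 : cX hp z x ^ s = 1 := by rw [← cX_pow hp hz, hzs, cX_one]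
    obtain ⟨i, hi, he⟩ := hζ.eq_pow_of_pow_eq_one h2
    exact ⟨(i : ZMod s), by rw [ZMod.val_natCast, Nat.mod_eq_of_lt hi, he]⟩
  choose c hc using h1
  refine ⟨(AddMonoidHom.mk' c fun x y => ?_).toIntLinearMap, hc⟩
  refine pow_val_inj' hζ ?_
  rw [← hc, pow_val_add hζ, ← hc, ← hc]
  exact hmc.add x y

/-- **Elementary abelian `s`-subgroups of the torus fixed by a `t`-element of the Weyl group.** -/
theorem card_le_of_fix [Finite M.Group] {s t : ℕ} [hs : Fact s.Prime] [ht : Fact t.Prime] (hst : s ≠ t) (hsr : s ≠ r)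
    {w : M.Group} {i : ℕ} (hw : w ^ t ^ i = 1) (hw1 : w ≠ 1) {ι : Type*} (z : ι → ↥(D.group k))
    (hzi : Function.Injective z)
    (hz : ∀ j, z j ∈ TT D k) (hzs : ∀ j, z j ^ s = 1)
    (hfix : ∀ j x, cX hp (z j) (rep M.toCoxeterSystem hp.isCartan w x) = cX hp (z j) x) :
    ∃ f, f < l ∧ s ^ l ≡ s ^ f [MOD t] ∧ Nat.card ι ≤ s ^ f := by
  obtain ⟨f, hf, h1, h2⟩ := card_fix hp.isCartan hst hw hw1
  refine ⟨f, hf, h1, ?_⟩
  obtain ⟨ζ, hζ⟩ := exists_zeta (k := k) (r := r) (p := s) hsr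
  choose c hc using fun j => exists_fun (hp := hp) hζ (hz j) (hzs j)
  have hfin : Finite (Fun' l s) := Nat.finite_of_card_ne_zero (by rw [card_Fun]; exact pow_ne_zero _ hs.out.ne_zero)
  rw [← h2]
  refine Nat.card_le_card_of_injective (fun j => (⟨c j, fun x => pow_val_inj' hζ ?_⟩ : fixF hp.isCartan s w)) ?_
  · rw [← hc, ← hc, hfix]
  · intro a b hab
    have h3 : c a = c b := congrArg Subtype.val hab
    apply hzi
    refine cX_inj hp (hz a) (hz b) fun j => ?_
    rw [hc, hc, h3]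

variable {G : Type v} [Group G] {κ : G →* ↥(D.group k)} {e : ℕ} {τ : MulAut ↥(D.group k)} {θ : (Fin l → ℤ) ≃+ (Fin l → ℤ)}

/-- **elementary abelian subgroups of the torus from functionals** -/
theorem exists_elem (hp : IsType D l M) {d : ℕ} {Bi : Fin l → Fin l → ℤ} (hB : InvC D l d Bi) (hd : d ≠ 0)
    (hinj : Function.Injective κ)
    (hτ : IsFrob r e τ) (F : Fr M.toCoxeterSystem hp.isCartan (TT D k) (XX D l k) τ θ) {N : ℕ} [NeZero N] {ζ : k}
    (hζ : IsPrimitiveRoot ζ N) (hmem : ∀ t ∈ TT D k, τ t = t → t ^ N = 1 → ∃ x, κ x = t)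
    {A : Type*} [AddCommGroup A] (Ψ : A →+ ((Fin l → ℤ) →+ ZMod N)) (hΨ : Function.Injective Ψ)
    (hc : ∀ a x, Ψ a (θ x) = ((r ^ e : ℕ) : ZMod N) * Ψ a x) :
    ∃ E : Subgroup G, E ≤ TG κ ∧ (∀ x ∈ E, x ^ N = 1) ∧ Nat.card E = Nat.card A := by
  have h1 : ∀ a, ∃ x : G, κ x ∈ TT D k ∧ (∀ y, cX hp (κ x) y = ζ ^ (Ψ a y).val) ∧ x ^ N = 1 := by
    intro a
    obtain ⟨t, ht, hct, htN, hτt⟩ := exists_tor_fix hp hB hd hτ F hζ (Ψ a) (hc a)
    obtain ⟨x, rfl⟩ := hmem t ht hτt htN
    exact ⟨x, ht, hct, hinj (by rw [map_pow, htN, map_one])⟩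
  choose g hg hgc hgN using h1
  let f : Multiplicative A →* G :=
    { toFun := fun a => g a.toAdd
      map_one' := by
        apply hinj
        show κ (g 0) = κ 1
        rw [map_one]
        refine cX_inj hp (hg 0) (one_mem _) fun i => ?_
        rw [hgc, map_zero, cX_one]
        show ζ ^ (0 : ZMod N).val = 1
        rw [ZMod.val_zero, pow_zero]
      map_mul' := by
        intro a b
        apply hinj
        show κ (g (a.toAdd + b.toAdd)) = κ (g a.toAdd * g b.toAdd)
        rw [map_mul]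
        refine cX_inj hp (hg _) (mul_mem (hg _) (hg _)) fun i => ?_
        rw [hgc, cX_mul hp (hg _) (hg _), hgc, hgc, map_add, AddMonoidHom.add_apply, pow_val_add hζ] }
  have hf : Function.Injective f := by
    intro a b hab
    have h2 : g a.toAdd = g b.toAdd := hab
    refine hΨ (DFunLike.ext _ _ fun y => ?_)
    have h3 := hgc a.toAdd y
    rw [h2, hgc] at h3
    exact (pow_val_inj' hζ h3).symm
  refine ⟨f.range, ?_, ?_, ?_⟩
  · rintro _ ⟨a, rfl⟩
    exact hg _
  · rintro _ ⟨a, rfl⟩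
    exact hgN _
  · rw [Nat.card_congr (MonoidHom.ofInjective hf).symm.toEquiv]
    exact Nat.card_congr Multiplicative.toAdd

end Tor

end Cfsg.Agent.H164.RVExc
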