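import Cfsg.Agent.H164.RV.ExcBase
import Cfsg.Agent.H572.ExcF

/-!
# TEAM RV, R2 exceptional: the full case is impossible (helper164)

`θ = ε`, `s ∣ q - ε`, `t ∣ |W|`: the `t`-elements of the normaliser of the torus act nontrivially on the `s`-elements of the
torus, which contradicts `D_{s, t}` if the Hall `{s, t}`-subgroups have a normal Sylow `t`-subgroup.
-/

set_option autoImplicit false
set_option linter.unusedSectionVars false

namespace Cfsg.Agent.H164.RVExc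

open CoxeterSystem Cfsg Cfsg.Lie Cfsg.Lie.ChevalleyDatum
open Cfsg.Agent.ChevalleyStructure Cfsg.Agent.ChevalleyStructure.Elts Cfsg.Agent.ChevalleyStructure.CoxeterGeom
  Cfsg.Agent.ChevalleyStructure.CoxeterGeomTypes Cfsg.Agent.ChevalleyStructure.NPerm
open Cfsg.Agent.Tits.Roots Cfsg.Agent.Tits.Core Cfsg.Agent.Nodes Cfsg.Agent.Nodes.Reps Cfsg.Agent.Nodes.BNOf
  Cfsg.Agent.Nodes.RGDChev Cfsg.Agent.Nodes.Bruhat
open Cfsg.Agent.KFacts.RgdField Cfsg.Agent.KFacts.RgdChevCoord Cfsg.Agent.BpExc.TorCent Cfsg.Agent.BpExc.TorChev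
open Cfsg.Agent.GpExc.Field Cfsg.Agent.BpExc.Tow Cfsg.Agent.BpExc.TowChev Cfsg.Agent.BpExc.Fr
  Cfsg.Agent.BpExc.LangFr Cfsg.Agent.H129.TorusChar Cfsg.Agent.H129.TorusMain Cfsg.Agent.H123.ExcZ
open Cfsg.Agent.BpExc Cfsg.Agent.H795.LangT Cfsg.Agent.H795.Core Cfsg.Agent.H795.NotAbT
open Cfsg.Agent.H572.ExcA Cfsg.Agent.H572.ExcB Cfsg.Agent.H572.ExcC Cfsg.Agent.H572.ExcD Cfsg.Agent.H572.ExcE
  Cfsg.Agent.H572.ExcF Cfsg.Agent.H572.LatQ Cfsg.Agent.H572.LatForm
open Cfsg.Agent.H129.TorusUntw (phi isFrob_phi fr_phi phi_emb coe_phi fix_range fix_split exists_closure)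
open Cfsg.Agent.H795.Untw Cfsg.Agent.H795.NotAbRows Cfsg.Agent.BpExc.RowsUntw
open Cfsg.Agent.H988.CPi Cfsg.Agent.H571.DExt Cfsg.Agent.H553.OddHall
open Subgroup
open scoped commutatorElement

universe u v

section

variable {D : ChevalleyDatum} {l : ℕ} {M : CoxeterMatrix (Fin l)}

/-- the form data of the full case -/
theorem fdata_full (hp : IsType D l M) (X : Dat D l) : FData hp (nf (cartanOf D l) X.sym) ⊤ X.ee := by
  have hWf : Finite M.Group := finite_W hp (M.toCoxeterSystem)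
  refine ⟨isForm M.toCoxeterSystem hp.isCartan X.S, fun w _ => iso_act M.toCoxeterSystem hp.isCartan X.S w, X.norm, ?_⟩
  intro w _ hw
  apply ac_ext (hp := hp)
  intro x
  rw [ac_one]
  have hx : x ∈ AddSubgroup.closure (Set.range X.ee) := by rw [X.hspan]; exact AddSubgroup.mem_top _
  induction hx using AddSubgroup.closure_induction with
  | mem y hy =>
    obtain ⟨i, rfl⟩ := hy
    exact sub_eq_zero.1 (eq_zero_of_rad M.toCoxeterSystem hp.isCartan X.S (hw i))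
  | zero => exact map_zero _
  | add y z _ _ hy hz => rw [map_add, hy, hz]
  | neg y _ hy => rw [map_neg, hy]

/-- elements of odd order prime to `s` acting quadratically modulo `s` are trivial -/
theorem eq_one_of_quad (hp : IsType D l M) (X : Dat D l) {s : ℕ} (hs : s.Prime) (hs2 : s ≠ 2) {w : M.Group} {n : ℕ}
    (hn : Odd n) (hns : ¬ 3 ∣ n ∨ 5 ≤ s) (hw : w ^ n = 1) (hq : Quad (nf (cartanOf D l) X.sym) s (ac hp w)) : w = 1 := by
  have hWf : Finite M.Group := finite_W hp (M.toCoxeterSystem)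
  have hF := fdata_full hp X
  have hiso := hF.iso w (mem_top w)
  by_cases h5 : 5 ≤ s
  · exact hF.fix w (mem_top w) fun i => five hF.form hiso hs h5 hq (hF.norm i)
  · have h3 : s = 3 := by
      have h1 := hs.two_le
      have h4 : s ≠ 4 := by rintro rfl; norm_num at hs
      omega
    subst h3
    rcases dich_all hF.form hiso hq (n := n) hn (fun x => by
      rw [ac_iter, hw, ac_one, sub_self]; exact Rad.zero hF.form) hF.norm X.j0 X.dp X.conn with h1 | h1
    · exact hF.fix w (mem_top w) h1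
    · have hw3 : w ^ 3 = 1 := by
        apply hF.fix _ (mem_top _)
        intro i
        have h2 : Rad (nf (cartanOf D l) X.sym) (ac hp w (ac hp w (ac hp w (X.ee i)) + ac hp w (X.ee i) + X.ee i)) :=
          (h1 i).map hF.form hiso
        have h3 := h2.sub hF.form (h1 i)
        have h4 : ac hp w (ac hp w (ac hp w (X.ee i)) + ac hp w (X.ee i) + X.ee i) -
            (ac hp w (ac hp w (X.ee i)) + ac hp w (X.ee i) + X.ee i) = ac hp (w ^ 3) (X.ee i) - X.ee i := by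
          rw [pow_succ, pow_two, ac_mul, ac_mul, map_add, map_add]
          abel
        rwa [h4] at h3
      have hn3 : ¬ 3 ∣ n := hns.resolve_right h5
      have hcop : Nat.Coprime n 3 := ((Nat.Prime.coprime_iff_not_dvd Nat.prime_three).2 hn3).symm
      have h5 : orderOf w ∣ 1 := by
        rw [← hcop.gcd_eq_one]
        exact Nat.dvd_gcd (orderOf_dvd_of_pow_eq_one hw) (orderOf_dvd_of_pow_eq_one hw3)
      rwa [Nat.dvd_one, orderOf_eq_one_iff] at h5

variable {hp : IsType D l M}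
  {k : Type u} [Field k] [IsAlgClosed k] {r : ℕ} [Fact r.Prime] [CharP k r]
  {G : Type v} [Group G] [Finite G] {κ : G →* ↥(D.group k)} {e : ℕ} {τ : MulAut ↥(D.group k)}
  {θ : (Fin l → ℤ) ≃+ (Fin l → ℤ)}

/-- a `t`-element representing a given power -/
theorem exists_t_elt {t : ℕ} [ht : Fact t.Prime] (hk : LocFin k) {x : G} {w : M.Group} (hx : RP hp hk r w (κ x))
    (hw : orderOf w = t) : ∃ (y : G) (v : M.Group) (j : ℕ), RP hp hk r v (κ y) ∧ y ^ t ^ j = 1 ∧ v ≠ 1 ∧ v ^ t = 1 := by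
  obtain ⟨j, m, hm, hj⟩ := Nat.exists_eq_pow_mul_and_not_dvd (orderOf_pos x).ne' t ht.out.ne_one
  refine ⟨x ^ m, w ^ m, j, ?_, ?_, ?_, ?_⟩
  · rw [map_pow]
    exact rp_pow' hx m
  · rw [← pow_mul, mul_comm, ← hj, pow_orderOf_eq_one]
  · intro h1
    exact hm (hw ▸ orderOf_dvd_of_pow_eq_one h1)
  · rw [← pow_mul, mul_comm, pow_mul, ← hw, pow_orderOf_eq_one, one_pow]

/-- the elements of order a power of `s` in the torus are normalised by `NG` -/
theorem NG_le_normalizer_TS {s : ℕ} (hinj : Function.Injective κ) (hk : LocFin k) :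
    NG hp hk r κ ≤ normalizer (TS κ hinj hp s : Set G) := by
  have key : ∀ y ∈ NG hp hk r κ, ∀ u ∈ TS κ hinj hp s, y * u * y⁻¹ ∈ TS κ hinj hp s := by
    rintro y hy u ⟨hu, i, hi⟩
    exact ⟨conj_mem_TG κ hy hu, i, by rw [conj_pow, hi, mul_one, mul_inv_cancel]⟩
  intro y hy
  rw [mem_normalizer_iff]
  intro u
  refine ⟨key y hy u, fun h => ?_⟩
  have h1 := key y⁻¹ (inv_mem hy) _ h
  have h2 : y⁻¹ * (y * u * y⁻¹) * y⁻¹⁻¹ = u := by group
  rwa [h2] at h1

theorem isPGroup_TS {s : ℕ} (hinj : Function.Injective κ) : IsPGroup s (TS κ hinj hp s) := fun u => by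
  obtain ⟨i, hi⟩ := u.2.2
  exact ⟨i, Subtype.ext hi⟩

theorem piN_of_pGroup {X : Type*} [Group X] {s : ℕ} (hs : s.Prime) {K : Subgroup X} [Finite K] {π : Set ℕ} (hπ : s ∈ π)
    (hK : IsPGroup s K) : PiN π (Nat.card K) := by
  have := Fact.mk hs
  intro q hq hd
  obtain ⟨n, hn⟩ := IsPGroup.iff_card.1 hK
  rw [hn] at hd
  rwa [(Nat.prime_dvd_prime_iff_eq hq hs).1 (hq.dvd_of_dvd_pow hd)]

/-- a `t`-element normalising an `s`-subgroup centralises it, if `{s, t}`-subgroups lie in Hall subgroups with a normal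
Sylow `t`-subgroup -/
theorem comm_of_dom {X : Type*} [Group X] [Finite X] {s t : ℕ} (hs : s.Prime) (ht : t.Prime) (hst : s ≠ t)
    (hP : PairN t s X)
    (hD : ∀ K : Subgroup X, PiN ({s, t} : Set ℕ) (Nat.card K) → ∃ H : Subgroup X, IsPiHall ({s, t} : Set ℕ) H ∧ K ≤ H)
    {A : Subgroup X} (hA : IsPGroup s A) {y : X} {j : ℕ} (hy : y ^ t ^ j = 1) (hn : y ∈ normalizer (A : Set X)) :
    ∀ a ∈ A, a * y = y * a := by
  have hfs := Fact.mk hs
  have hft := Fact.mk ht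
  have hzp : IsPGroup t (zpowers y) := by
    rintro ⟨_, i, rfl⟩
    refine ⟨j, Subtype.ext ?_⟩
    show (y ^ i) ^ t ^ j = 1
    rw [← zpow_natCast, ← zpow_mul, mul_comm, zpow_mul, zpow_natCast, hy, one_zpow]
  have h1 : PiN ({s, t} : Set ℕ) (Nat.card (zpowers y ⊔ A : Subgroup X)) :=
    piN_sup (by rwa [zpowers_le]) (piN_of_pGroup ht (Or.inr rfl) hzp) (piN_of_pGroup hs (Or.inl rfl) hA)
  obtain ⟨H, hH, hle⟩ := hD _ h1
  obtain ⟨T, hTn, hTp, hTi⟩ := hP H hH
  have hyH : y ∈ H := hle (mem_sup_left (mem_zpowers y))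
  have hyT : (⟨y, hyH⟩ : H) ∈ T := mem_of_ns ht hTn hTi (j := j) (Subtype.ext hy)
  intro a ha
  have haH : a ∈ H := hle (mem_sup_right ha)
  have h2 : (⟨a, haH⟩ : H) * ⟨y, hyH⟩ * (⟨a, haH⟩ : H)⁻¹ * (⟨y, hyH⟩ : H)⁻¹ ∈ T :=
    T.mul_mem (hTn.conj_mem _ hyT _) (T.inv_mem hyT)
  have h3 : a * y * a⁻¹ * y⁻¹ ∈ A := by
    have h4 := (mem_normalizer_iff.1 hn a⁻¹).1 (A.inv_mem ha)
    have h5 : a * y * a⁻¹ * y⁻¹ = a * (y * a⁻¹ * y⁻¹) := by group
    rw [h5]
    exact A.mul_mem ha h4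
  obtain ⟨i, hi⟩ := hTp ⟨_, h2⟩
  obtain ⟨i', hi'⟩ := hA ⟨_, h3⟩
  have h6 : (a * y * a⁻¹ * y⁻¹) ^ t ^ i = 1 := congrArg (fun z : T => ((z : H) : X)) hi
  have h7 : (a * y * a⁻¹ * y⁻¹) ^ s ^ i' = 1 := congrArg Subtype.val hi'
  have hcop : Nat.Coprime (t ^ i) (s ^ i') := Nat.Coprime.pow _ _ ((Nat.coprime_primes ht hs).2 hst.symm)
  have h8 : orderOf (a * y * a⁻¹ * y⁻¹) ∣ 1 := by
    rw [← hcop.gcd_eq_one]
    exact Nat.dvd_gcd (orderOf_dvd_of_pow_eq_one h6) (orderOf_dvd_of_pow_eq_one h7)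
  rw [Nat.dvd_one, orderOf_eq_one_iff] at h8
  have h9 : a * y = (a * y * a⁻¹ * y⁻¹) * (y * a) := by group
  rw [h9, h8, one_mul]

/-- **The full case contradicts domination.** -/
theorem full_false {s t : ℕ} [hs : Fact s.Prime] [ht : Fact t.Prime] (hs2 : s ≠ 2) (ht2 : t ≠ 2) (hst : s ≠ t)
    (hsr : s ≠ r) (ht3 : t ≠ 3) (X : Dat D l) (hk : LocFin k) (h : Emb hp r e κ τ θ) {ε : ℤ} (hθ : ∀ x, θ x = ε • x)
    (hcm : ∀ a b, τ a = a → τ b = b → ∃ x, κ x = a * b * a⁻¹ * b⁻¹) (hq : (s : ℤ) ∣ (r : ℤ) ^ e - ε)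
    (htW : t ∣ Nat.card M.Group) (hP : PairN t s G)
    (hD : ∀ K : Subgroup G, PiN ({s, t} : Set ℕ) (Nat.card K) → ∃ H : Subgroup G, IsPiHall ({s, t} : Set ℕ) H ∧ K ≤ H) :
    False := by
  have hWf : Finite M.Group := finite_W hp (M.toCoxeterSystem)
  have hs' := hs.out
  -- the element of the Weyl group
  obtain ⟨w₀, hw₀⟩ := exists_prime_orderOf_dvd_card' t htW
  have h1 : commutator M.Group ≤ im hp hk r κ (NG hp hk r κ) := by
    rw [commutator_def, Subgroup.commutator_le]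
    intro v _ w _
    obtain ⟨a, ha, hτa⟩ := exists_fixed (hk := hk) h X.hB X.hd0 (v := v) (by rw [CT_eq_top hθ]; exact mem_top _)
    obtain ⟨b, hb, hτb⟩ := exists_fixed (hk := hk) h X.hB X.hd0 (v := w) (by rw [CT_eq_top hθ]; exact mem_top _)
    obtain ⟨x, hx⟩ := hcm a b hτa hτb
    have h2 : RP hp hk r ⁅v, w⁆ (κ x) := by
      rw [hx, commutatorElement_def]
      exact ((ha.mul hb).mul ha.inv).mul hb.inv
    exact ⟨x, ⟨_, h2⟩, h2⟩
  obtain ⟨x, hxN, hx⟩ := h1 (mem_commutator_of_odd M.toCoxeterSystem (ht.out.odd_of_ne_two ht2) (n := t)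
    (by rw [← hw₀, pow_orderOf_eq_one]))
  obtain ⟨y, w, j, hy, hyj, hw1, hwt⟩ := exists_t_elt hk hx hw₀
  -- `y` centralises the `s`-elements of the torus
  have hcen := comm_of_dom hs' ht.out hst hP hD (isPGroup_TS (hp := hp) h.inj) hyj
    (NG_le_normalizer_TS h.inj hk ⟨w, hy⟩)
  obtain ⟨ζ, hζ'⟩ := exists_zeta_pow (k := k) (r := r) (s := s) (a := 1) hsr
  have hζ : IsPrimitiveRoot ζ s := by rwa [pow_one] at hζ'
  have hζ0 : ζ ≠ 0 := hζ.ne_zero hs'.ne_zero
  have key : ∀ j x, (s : ℤ) ∣ pairing (cartanOf D l) j (x - ac hp w⁻¹ x) := by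
    intro j x
    obtain ⟨a, ha, hax⟩ := exists_cor_simple h X.hB X.hd0 hθ hcm hζ.pow_eq_one hs'.ne_zero hq hk j
    have haS : a ∈ TS κ h.inj hp s := by
      refine ⟨ha, 1, ?_⟩
      rw [pow_one]
      apply h.inj
      rw [map_pow, map_one]
      refine cX_inj hp (pow_mem (show κ a ∈ TT D k from ha) s) (one_mem _) fun i => ?_
      rw [cX_pow hp (show κ a ∈ TT D k from ha), hax, cX_one, ← zpow_natCast, ← zpow_mul, mul_comm, zpow_mul,
        zpow_natCast, hζ.pow_eq_one, one_zpow]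
    have h2 : ⁅a, y⁆ = 1 := commutatorElement_eq_one_iff_mul_comm.2 (hcen a haS)
    have h3 := char_comm ha hy x
    rw [h2, map_one, cX_one, hax] at h3
    exact (hζ.zpow_eq_one_iff_dvd _).1 h3.symm
  have hB : ∀ x z, (s : ℤ) ∣ nf (cartanOf D l) X.sym (x - ac hp w⁻¹ x) z := by
    intro x z
    rw [← nf_sum _ _ X.S.sym]
    exact Finset.dvd_sum fun j _ => (key j x).mul_left _
  have hquad : Quad (nf (cartanOf D l) X.sym) s (ac hp w⁻¹) := by
    intro x z
    have h2 := hB (x - ac hp w⁻¹ x) z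
    have h3 : x - ac hp w⁻¹ x - ac hp w⁻¹ (x - ac hp w⁻¹ x) =
        ac hp w⁻¹ (ac hp w⁻¹ x) - ac hp w⁻¹ x - (ac hp w⁻¹ x - x) := by
      rw [map_sub]
      abel
    rwa [h3] at h2
  have h4 := eq_one_of_quad hp X hs' hs2 (w := w⁻¹) (n := t) (ht.out.odd_of_ne_two ht2) (Or.inl fun h3 =>
    ht3 ((Nat.prime_dvd_prime_iff_eq Nat.prime_three ht.out).1 h3).symm) (by rw [inv_pow, hwt, inv_one]) hquad
  exact hw1 (inv_eq_one.1 h4)

end

/-! ### the groups -/

section Untw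

variable {D : ChevalleyDatum} {l : ℕ} {M : CoxeterMatrix (Fin l)} (hp : IsType D l M) {F : Type u} [Field F] [Fintype F]

include hp in
theorem full_false_untw (X : Dat D l) {s t : ℕ} (hs : s.Prime) (ht : t.Prime) (hs2 : s ≠ 2) (ht2 : t ≠ 2)
    (hst : s ≠ t) (ht3 : t ≠ 3) (hsF : (s : F) ≠ 0) {ε : ℤ} (w : M.Group)
    (hε : ∀ x, rep M.toCoxeterSystem hp.isCartan w x = ε • x) (hq : (s : ℤ) ∣ (Fintype.card F : ℤ) - ε)
    (htW : t ∣ Nat.card M.Group) (hP : PairN t s ↥(D.group F))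
    (hD : ∀ K : Subgroup ↥(D.group F), PiN ({s, t} : Set ℕ) (Nat.card K) →
      ∃ H : Subgroup ↥(D.group F), IsPiHall ({s, t} : Set ℕ) H ∧ K ≤ H) : False := by
  have := Fact.mk hs
  have := Fact.mk ht
  obtain ⟨r, e, hr, hrF, hrk, he, hqF, hk⟩ := exists_closure (F := F) rfl
  have hsr : s ≠ r := by
    rintro rfl
    exact hsF (CharP.cast_eq_zero F s)
  have hGf : Finite ↥(D.group F) := inferInstance
  have hset := setup_untw' hp X hk he hqF
  obtain ⟨κ, τ, z, hE, hκ, hb⟩ := exists_emb (hp := hp) hk hset.1 he hset.2.1 hset.2.2.1 hset.2.2.2.1 hset.2.2.2.2.1 w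
  have hcm' := fun a b => comm_of_comm (κ := κ) (τ := τ) hκ hb hset.2.2.2.2.2 a b
  refine full_false hs2 ht2 hst hsr ht3 X hk hE (ε := ε) (fun x => hε x) hcm' ?_ htW hP hD
  rw [hqF] at hq
  push_cast at hq ⊢
  exact hq

end Untw

section Rows

variable {F : Type u} [Field F] [Fintype F]

/-- domination for `{s, t}`, in the form used here -/
def DomST (s t : ℕ) (G : Type*) [Group G] : Prop :=
  ∀ K : Subgroup G, PiN ({s, t} : Set ℕ) (Nat.card K) → ∃ H : Subgroup G, IsPiHall ({s, t} : Set ℕ) H ∧ K ≤ H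

theorem e7_three_false (h3 : (3 : F) ≠ 0) {t : ℕ} (ht : t = 5 ∨ t = 7) (hD : DomST 3 t ↥(chevE7.group F)) : False := by
  obtain ⟨ε, hε, hq⟩ := exists_eps _ (three_cases h3)
  obtain ⟨w, hw⟩ := exists_w e7T negE7 hε
  have htp : t.Prime := by rcases ht with rfl | rfl <;> norm_num
  exact full_false_untw e7T datE7 Nat.prime_three htp (by norm_num) (by omega) (by omega) (by omega)
    (by exact_mod_cast h3) w hw hq (by rw [card_E7]; rcases ht with rfl | rfl <;> norm_num)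
    (e7_three h3 htp (by omega) (by omega)) hD

theorem e8_three_false (h3 : (3 : F) ≠ 0) {t : ℕ} (ht : t = 5 ∨ t = 7) (hD : DomST 3 t ↥(chevE8.group F)) : False := by
  obtain ⟨ε, hε, hq⟩ := exists_eps _ (three_cases h3)
  obtain ⟨w, hw⟩ := exists_w e8T negE8 hε
  have htp : t.Prime := by rcases ht with rfl | rfl <;> norm_num
  exact full_false_untw e8T datE8 Nat.prime_three htp (by norm_num) (by omega) (by omega) (by omega)
    (by exact_mod_cast h3) w hw hq (by rw [card_E8]; rcases ht with rfl | rfl <;> norm_num)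
    (e8_three h3 htp (by omega) (by omega)) hD

theorem e6_three_false (h3 : (3 : F) ≠ 0) (hq3 : Fintype.card F % 3 = 1) (hD : DomST 3 5 ↥(chevE6.group F)) : False := by
  have hq : (3 : ℤ) ∣ (Fintype.card F : ℤ) - 1 := by omega
  exact full_false_untw e6T datE6 Nat.prime_three (by norm_num) (by norm_num) (by norm_num) (by norm_num) (by norm_num)
    (by exact_mod_cast h3) 1 (fun x => by rw [map_one, Module.End.one_apply, one_smul]) hq
    (by rw [card_E6]; norm_num) (e6_three_one h3 hq3 (by norm_num) (by norm_num) (by norm_num)) hD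

theorem e7_five_false (h5 : (5 : F) ≠ 0)
    (hq : (5 : ℤ) ∣ (Fintype.card F : ℤ) - 1 ∨ (5 : ℤ) ∣ (Fintype.card F : ℤ) - (-1 : ℤ))
    (hD : DomST 5 7 ↥(chevE7.group F)) : False := by
  have hq' := hq
  obtain ⟨ε, hε, hq⟩ := exists_eps (s := 5) _ hq
  obtain ⟨w, hw⟩ := exists_w e7T negE7 hε
  exact full_false_untw e7T datE7 Nat.prime_five (by norm_num) (by norm_num) (by norm_num) (by norm_num) (by norm_num)
    (by exact_mod_cast h5) w hw hq (by rw [card_E7]; norm_num)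
    (e7_five h5 hq' (by norm_num) (by norm_num) (by norm_num) (by norm_num)) hD

theorem e8_five_false (h5 : (5 : F) ≠ 0)
    (hq : (5 : ℤ) ∣ (Fintype.card F : ℤ) - 1 ∨ (5 : ℤ) ∣ (Fintype.card F : ℤ) - (-1 : ℤ))
    (hD : DomST 5 7 ↥(chevE8.group F)) : False := by
  have hq' := hq
  obtain ⟨ε, hε, hq⟩ := exists_eps (s := 5) _ hq
  obtain ⟨w, hw⟩ := exists_w e8T negE8 hε
  exact full_false_untw e8T datE8 Nat.prime_five (by norm_num) (by norm_num) (by norm_num) (by norm_num) (by norm_num)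
    (by exact_mod_cast h5) w hw hq (by rw [card_E8]; norm_num)
    (e8_five h5 hq' (by norm_num) (by norm_num) (by norm_num) (by norm_num)) hD

set_option maxRecDepth 100000 in
/-- `²E₆(q)`, `3 ∣ q + 1` -/
theorem twE6_three_false {q : ℕ} (h3 : (3 : F) ≠ 0) (hq : IsPrimePow q) (hF : Fintype.card F = q ^ 2)
    (hq3 : q % 3 = 2) (hD : DomST 3 5 ↥(twistedE6 F q)) : False := by
  have : Fact (Nat.Prime 3) := ⟨Nat.prime_three⟩
  obtain ⟨r, n, hr, hrF, hrk, hn0, hn, hk⟩ := Cfsg.Agent.H795.Tw.exists_closure_q two_ne_zero hq hF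
  have hpr : 3 ≠ r := by
    rintro rfl
    exact h3 (by exact_mod_cast CharP.cast_eq_zero F 3)
  have hG : Finite ↥(twistedE6 F q) := inferInstance
  have : Fact (Nat.Prime 5) := ⟨by norm_num⟩
  have hset := Cfsg.Agent.H795.Tw.setup_six (algebraMap F (AlgebraicClosure F)) r hk hn0 hn hF (p := 5) (by norm_num)
  have hcm := comm_mem_of_split (TT_comm Cfsg.Agent.H720.TwFr.hp6) hset.norm hset.fix (fun y hy => by
      have hφ : ∀ t : AlgebraicClosure F, iterateFrobenius (AlgebraicClosure F) r n t = t ^ q :=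
        fun t => by rw [iterateFrobenius_def, hn]
      obtain ⟨x, hx, t, ht, e⟩ := EmbInst.twE6_split (f := algebraMap F (AlgebraicClosure F)) hq hF hφ y.2
        (by rw [← Cfsg.Agent.H720.TwFr.coe_sig6, hy])
      exact ⟨⟨x, hx⟩, ⟨t, diagonal_le_group Cfsg.Agent.H720.TwFr.hp6.inList _ ht⟩, ht, Subtype.ext e⟩)
  obtain ⟨κ, τ, z, hE, hκ, hb⟩ := exists_emb (hp := Cfsg.Agent.H720.TwFr.hp6) hk hset.inj hn0 hset.frob hset.fr
    hset.fix hset.fin Cfsg.Agent.H795.NotAbData.E6.c6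
  have hcm' := fun a b => comm_of_comm (κ := κ) (τ := τ) hκ hb hcm a b
  refine full_false (s := 3) (t := 5) (by norm_num) (by norm_num) (by norm_num) hpr (by norm_num) datE6 hk hE
    (ε := -1) ?_ hcm' ?_ (by rw [card_E6]; norm_num)
    (twE6_three_two h3 hq hF hq3 (by norm_num) (by norm_num) (by norm_num)) hD
  · exact eps_of_mat (hp := Cfsg.Agent.H720.TwFr.hp6) (w := Cfsg.Agent.H795.NotAbData.E6.c6)
      (U := Cfsg.Agent.H795.NotAbData.E6.c6M) perm6_mat
      (Cfsg.Agent.H795.NotAbData.E6.is_c6 Cfsg.Agent.H720.TwFr.hp6) (by decide +kernel)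
  · have h1 : (3 : ℤ) ∣ (q : ℤ) - (-1) := by omega
    rw [hn] at h1
    push_cast at h1 ⊢
    exact h1

end Rows

end Cfsg.Agent.H164.RVExc
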